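import Cfsg.Agent.Lib.Recog.SporBound.Fi22Group
import Cfsg.Agent.Lib.Recog.SporBound.TriF1.Valid
import Cfsg.Agent.Lib.Recog.SporBound.TriF2.Valid
import Cfsg.Agent.Lib.Recog.SporBound.TriF3.Valid
import Cfsg.Agent.Lib.Recog.SporBound.TriF4.Valid
import Cfsg.Agent.Lib.Recog.SporBound.TriF5.Valid
import Cfsg.Agent.Lib.Recog.SporBound.TriF6.Valid
import Cfsg.Agent.Lib.Recog.SporBound.TriF7.Valid

/-!
# The Y332 group with the spider relation alone, on eight of its nine letters

The kernel to the presented Fi22 has order at most two on this subgroup, so parity and the action of Fi22 decide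
equality of words.
-/

set_option autoImplicit false
set_option maxRecDepth 20000
set_option Elab.async false

namespace CfsgLib.Recog.YSpider

open Cfsg CfsgLib.Recog.SporBound CfsgLib.ThreeTrans.CosetIndex
open Cfsg.Agent.S1687 (gens fits)

/-- Maps out of a presented group from the images of the letters. -/
theorem exists_hom {α : Type} [DecidableEq α] {edges : List (α × ℕ × α)} {extra : List (FreeGroup α)}
    {gens : List α} (hnd : gens.Nodup) {M : Type*} [Group M] (b : ℕ → M) (hb : ∀ x, b x * b x = 1)
    (hbig : ∀ x, gens.length ≤ x → b x = 1) (h : ∀ w ∈ relWords edges extra gens, (w.map b).prod = 1) :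
    ∃ φ : Spor.CoxPresented α edges extra →* M, ∀ x, φ (gen edges extra gens x) = b x := by
  refine ⟨PresentedGroup.toGroup (f := fun y => b (gens.idxOf y)) ?_, fun x => ?_⟩
  · intro r hr
    rw [hom_eq_prod gens _ b (fun y => FreeGroup.lift_apply_of) hb]
    refine h _ ?_
    rw [relWords, List.mem_append]
    rcases hr with ⟨x, hx, y, hy, rfl⟩ | hr
    · exact Or.inl (List.mem_flatMap.2 ⟨x, hx, List.mem_map.2 ⟨y, hy, rfl⟩⟩)
    · exact Or.inr (List.mem_map.2 ⟨r, hr, rfl⟩)
  · by_cases hx : x < gens.length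
    · rw [gen, List.getElem?_eq_getElem hx, Option.elim_some, PresentedGroup.toGroup.of, hnd.idxOf_getElem _ hx]
    · rw [gen, List.getElem?_eq_none (not_lt.1 hx), Option.elim_none, map_one, hbig x (not_lt.1 hx)]

/-- The parity of a word. -/
def par (n : ℕ) : Multiplicative (ZMod 2) := Multiplicative.ofAdd (n : ZMod 2)

theorem prod_par (w : List ℕ) : (w.map fun _ => par 1).prod = par w.length := by
  induction w with
  | nil => rfl
  | cons x w ih =>
    rw [List.map_cons, List.prod_cons, ih, List.length_cons, par, par, par, ← ofAdd_add]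
    congr 1; push_cast; ring

theorem par_eq {m n : ℕ} : par m = par n ↔ m % 2 = n % 2 := by
  rw [par, par, Multiplicative.ofAdd.apply_eq_iff_eq, ZMod.natCast_eq_natCast_iff']

/-- The relation of the three legs. -/
def leg3 : List (FreeGroup Spor.Fi22.Gen) := [(Spor.Fi22.d * Spor.Fi22.c * Spor.Fi22.b * Spor.Fi22.d *
  Spor.Fi22.e * Spor.Fi22.f * Spor.Fi22.d * Spor.Fi22.h * Spor.Fi22.i) ^ 10]

/-- The group. -/
abbrev Yx : Type := Spor.CoxPresented Spor.Fi22.Gen Spor.Fi22.edges leg3

/-- Its letters. -/
abbrev px (x : ℕ) : Yx := gen Spor.Fi22.edges leg3 gens x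

/-- The eight letters. -/
abbrev X8 : Subgroup Yx := letterSub Spor.Fi22.edges leg3 gens [1, 2, 3, 4, 5, 6, 7, 8]

theorem step {C : Cert} (hC : C.OK) {kl kl' : List ℕ} {m n : ℕ}
    (h : Finite (letterSub Spor.Fi22.edges leg3 gens kl) ∧ Nat.card (letterSub Spor.Fi22.edges leg3 gens kl) ≤ m)
    (hrel : C.rels.all (fun w => (relWords Spor.Fi22.edges leg3 gens).contains w) = true)
    (hsub : C.subs.all (fun w => w.all (kl.contains ·)) = true) (hkl : C.kl = kl') (hn : C.n * m = n) :
    Finite (letterSub Spor.Fi22.edges leg3 gens kl') ∧ Nat.card (letterSub Spor.Fi22.edges leg3 gens kl') ≤ n := by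
  subst hkl hn
  haveI := h.1
  refine tower_step Fi22Group.nodes hC _ h.2 (rels_one Fi22Group.nodes (more := []) (by simp) ?_) (wordsIn_letterSub hsub)
  refine List.all_eq_true.2 fun w hw => ?_
  rw [List.all_eq_true.1 hrel w hw]; rfl

theorem card_X8_le : Finite X8 ∧ Nat.card X8 ≤ 9170703360 := by
  have h0 : Finite (letterSub Spor.Fi22.edges leg3 gens []) ∧ Nat.card (letterSub Spor.Fi22.edges leg3 gens []) ≤ 1 := by
    have : letterSub Spor.Fi22.edges leg3 gens [] = ⊥ := by
      rw [letterSub, Subgroup.closure_eq_bot_iff]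
      rintro g ⟨x, hx, -⟩
      exact absurd hx List.not_mem_nil
    rw [this]
    exact ⟨inferInstance, by simp⟩
  have h1 := step TriF1.ok h0 (kl' := [1, 2]) (n := 6) (by decide +kernel) (by decide +kernel) (by decide +kernel)
    (by decide +kernel)
  have h2 := step TriF2.ok h1 (kl' := [1, 2, 3]) (n := 24) (by decide +kernel) (by decide +kernel) (by decide +kernel)
    (by decide +kernel)
  have h3 := step TriF3.ok h2 (kl' := [1, 2, 3, 4]) (n := 120) (by decide +kernel) (by decide +kernel)
    (by decide +kernel) (by decide +kernel)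
  have h4 := step TriF4.ok h3 (kl' := [1, 2, 3, 4, 5]) (n := 720) (by decide +kernel) (by decide +kernel)
    (by decide +kernel) (by decide +kernel)
  have h5 := step TriF5.ok h4 (kl' := [1, 2, 3, 4, 5, 6]) (n := 5040) (by decide +kernel) (by decide +kernel)
    (by decide +kernel) (by decide +kernel)
  have h6 := step TriF6.ok h5 (kl' := [1, 2, 3, 4, 5, 6, 7]) (n := 2903040) (by decide +kernel) (by decide +kernel)
    (by decide +kernel) (by decide +kernel)
  exact step TriF7.ok h6 (kl' := [1, 2, 3, 4, 5, 6, 7, 8]) (n := 9170703360) (by decide +kernel) (by decide +kernel)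
    (by decide +kernel) (by decide +kernel)

theorem toFi22 : ∃ π : Yx →* Spor.Fi22, ∀ x, π (px x) = Fi22Group.a x := by
  refine exists_hom fits.nodup Fi22Group.a (gen_sq fits) (fun x hx => gen_big fits (fits.ng ▸ hx)) fun w hw => ?_
  refine relWord_one Fi22Group.nodes ?_
  rw [relWords, List.mem_append] at hw ⊢
  refine hw.imp_right fun h => ?_
  obtain ⟨r, hr, rfl⟩ := List.mem_map.1 h
  rw [leg3, List.mem_singleton] at hr
  exact List.mem_map.2 ⟨r, by rw [hr, Spor.Fi22.extra]; exact List.mem_cons_self, rfl⟩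

theorem toPar : ∃ ε : Yx →* Multiplicative (ZMod 2), ∀ x < 9, ε (px x) = par 1 := by
  obtain ⟨ε, h⟩ := exists_hom (edges := Spor.Fi22.edges) (extra := leg3) fits.nodup
    (fun x => if x < 9 then par 1 else 1)
    (fun x => by split_ifs <;> decide) (fun x hx => if_neg (by rw [show gens.length = 9 from rfl] at hx; omega))
    fun w hw => by
      have hall : (relWords Spor.Fi22.edges leg3 gens).all
          (fun w => Nat.beq (w.length % 2) 0 && w.all fun x => Nat.blt x 9) = true := by decide +kernel
      have h := List.all_eq_true.1 hall w hw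
      rw [Bool.and_eq_true, Nat.beq_eq, List.all_eq_true] at h
      rw [List.map_congr_left (g := fun _ => par 1) (fun x hx => if_pos (show x < 9 from Nat.le_of_ble_eq_true (h.2 x hx))), prod_par,
        show (1 : Multiplicative (ZMod 2)) = par 0 from rfl, par_eq]
      omega
  exact ⟨ε, fun x hx => by rw [h, if_pos hx]⟩

/-- A word is trivial in Fi22. -/
noncomputable def trivOK (w : List ℕ) : Bool :=
  (List.range FiHat3510.data.n).all (fun c => Nat.beq (FiHat3510.data.trace c w) c) && w.all fun x => (Nat.ble 1 x && Nat.blt x 9)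

theorem triv_one {w : List ℕ} (h : trivOK w = true) : (w.map Fi22Group.a).prod = 1 := by
  refine inv_eq_one.1 (Fi22Group.card_and_faithful.2.1 (Equiv.ext fun c => Fin.ext ?_))
  rw [← Fi22Group.act_prod, map_one, Nat.eq_of_beq_eq_true
    (List.all_eq_true.1 (Bool.and_eq_true_iff.1 h).1 _ (List.mem_range.2 c.2))]
  rfl

/-- The ninth power of the first seven letters. -/
def zW : List ℕ := (List.replicate 9 [1, 2, 3, 4, 5, 6, 7]).flatten

/-- A word fixes 390 consecutive points. -/
noncomputable def partOK (lo : ℕ) (w : List ℕ) : Bool :=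
  forallFrom (fun c => Nat.beq (FiHat3510.data.trace c w) c) lo 390

theorem triv_of_parts {w : List ℕ} (los : List ℕ) (hlos : los = (List.range 9).map (390 * ·))
    (hw : (w.all fun x => (Nat.ble 1 x && Nat.blt x 9)) = true) (h : ∀ lo ∈ los, partOK lo w = true) :
    trivOK w = true := by
  have hn : FiHat3510.data.n = 3510 := rfl
  refine Bool.and_eq_true_iff.2 ⟨List.all_eq_true.2 fun c hc => ?_, hw⟩
  rw [List.mem_range, hn] at hc
  have hm : 390 * (c / 390) ∈ los := hlos ▸ List.mem_map.2 ⟨c / 390, List.mem_range.2 (by omega), rfl⟩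
  exact forallFrom_elim (h _ hm) (by omega) (by omega)

theorem triv_zW_part0 : partOK 0 zW = true := by decide +kernel

theorem triv_zW_part1 : partOK 390 zW = true := by decide +kernel

theorem triv_zW_part2 : partOK 780 zW = true := by decide +kernel

theorem triv_zW_part3 : partOK 1170 zW = true := by decide +kernel

theorem triv_zW_part4 : partOK 1560 zW = true := by decide +kernel

theorem triv_zW_part5 : partOK 1950 zW = true := by decide +kernel

theorem triv_zW_part6 : partOK 2340 zW = true := by decide +kernel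

theorem triv_zW_part7 : partOK 2730 zW = true := by decide +kernel

theorem triv_zW_part8 : partOK 3120 zW = true := by decide +kernel

theorem triv_zW : trivOK zW = true :=
  triv_of_parts [0, 390, 780, 1170, 1560, 1950, 2340, 2730, 3120] (by decide +kernel) (by decide +kernel) (by
    simp only [List.mem_cons, List.not_mem_nil, or_false, forall_eq_or_imp, forall_eq]
    exact ⟨triv_zW_part0, triv_zW_part1, triv_zW_part2, triv_zW_part3, triv_zW_part4, triv_zW_part5, triv_zW_part6, triv_zW_part7, triv_zW_part8⟩)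


theorem word_eq {u w : List ℕ} (hu : trivOK u = true) (hw : trivOK w = true)
    (hp : u.length % 2 = w.length % 2) : (u.map px).prod = (w.map px).prod := by
  obtain ⟨π, hπ⟩ := toFi22
  obtain ⟨ε, hε⟩ := toPar
  have := card_X8_le.1
  have := Fi22Group.finite_fi22
  have hz := triv_zW
  have key : ∀ v, trivOK v = true → π (v.map px).prod = 1 ∧ (v.map px).prod ∈ X8 ∧ ε (v.map px).prod = par v.length := by
    intro v hv
    have hl : ∀ x ∈ v, 1 ≤ x ∧ x < 9 := fun x hx => by
      have h := List.all_eq_true.1 (Bool.and_eq_true_iff.1 hv).2 x hx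
      rw [Bool.and_eq_true, Nat.ble_eq, Nat.blt_eq] at h
      exact h
    refine ⟨?_, mem_letterSub fun x hx => ?_, ?_⟩
    · rw [map_list_prod, List.map_map, List.map_congr_left (f := ⇑π ∘ px) (g := Fi22Group.a) fun x _ => hπ x]
      exact triv_one hv
    · obtain ⟨h1, h2⟩ := hl x hx
      simp only [List.mem_cons, List.not_mem_nil, or_false]; omega
    · rw [map_list_prod, List.map_map, List.map_congr_left (f := ⇑ε ∘ px) (g := fun _ => par 1) fun x hx => hε x (hl x hx).2, prod_par]
  let f : ↥X8 →* Spor.Fi22 := π.comp X8.subtype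
  have hr : f.range = Fi22Group.L8 := by
    rw [MonoidHom.range_eq_map, ← Subgroup.map_map, ← MonoidHom.range_eq_map, Subgroup.range_subtype, X8, letterSub,
      MonoidHom.map_closure, Fi22Group.L8, letterSub]
    congr 1
    ext g
    constructor
    · rintro ⟨_, ⟨x, hx, rfl⟩, rfl⟩; exact ⟨x, hx, hπ x⟩
    · rintro ⟨x, hx, rfl⟩; exact ⟨_, ⟨x, hx, rfl⟩, hπ x⟩
  have hker : Nat.card f.ker ≤ 2 := by
    have h := f.ker.card_mul_index
    rw [Subgroup.index_ker, hr, Fi22Group.card_and_faithful.2.2.2.1] at h
    have := card_X8_le.2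
    omega
  have mk : ∀ v, trivOK v = true → ∃ k : f.ker, (((k : ↥X8)) : Yx) = (v.map px).prod :=
    fun v hv => ⟨⟨⟨_, (key v hv).2.1⟩, (key v hv).1⟩, rfl⟩
  obtain ⟨k, hk⟩ := mk u hu
  obtain ⟨l, hl⟩ := mk w hw
  obtain ⟨z, hz'⟩ := mk zW hz
  suffices k = l by rw [← hk, ← hl, this]
  have hz1 : z ≠ 1 := fun e => by
    have := (key zW hz).2.2
    rw [← hz', e] at this
    exact absurd (this.symm.trans (map_one ε)) (by decide +kernel)
  have hcard : Nat.card f.ker = 2 := le_antisymm hker (Finite.one_lt_card_iff_nontrivial.2 ⟨⟨z, 1, hz1⟩⟩)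
  obtain ⟨b, hb, huniq⟩ := (Nat.card_eq_two_iff' (1 : f.ker)).1 hcard
  let e : f.ker → Multiplicative (ZMod 2) := fun a => ε ((a : ↥X8) : Yx)
  have he : e k = e l := by
    show ε _ = ε _
    rw [hk, hl, (key u hu).2.2, (key w hw).2.2, par_eq]; exact hp
  have heb : e b ≠ 1 := by
    rw [← huniq z hz1]
    show ε _ ≠ 1
    rw [hz', (key zW hz).2.2]
    decide +kernel
  by_cases h1 : k = 1 <;> by_cases h2 : l = 1
  · rw [h1, h2]
  · exact absurd (by rw [← huniq l h2, ← he, h1]; exact map_one ε) heb
  · exact absurd (by rw [← huniq k h1, he, h2]; exact map_one ε) heb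
  · rw [huniq k h1, huniq l h2]

end CfsgLib.Recog.YSpider
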