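import Cfsg.Agent.Lib.Recog.YSpider.Views
import Cfsg.Agent.Lib.Recog.SporBound.YArmEnd.Valid
import Cfsg.Agent.Lib.Recog.FiThree.Cover

/-!
# The end of an arm is the ninth power of a Coxeter element

The end `f` of an arm lies in the subgroup of the other letters of Y342, which modulo its central involution is an
image of the presented Fi23; there the product of `f` and the ninth power centralises the point stabiliser, so it is
trivial or that involution, and the parity decides.
-/

set_option autoImplicit false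
set_option maxRecDepth 20000
set_option Elab.async false

namespace CfsgLib.Recog.YSpider

open Cfsg CfsgLib.Recog.SporBound CfsgLib.ThreeTrans.CosetIndex CfsgLib.Recog.BitPerm
open scoped Pointwise

section FiThree

open CfsgLib.Recog.FiThree

theorem moved_all : Nat.beq (Nat.lor 1 (movedAny hWords)) (2 ^ 31671 - 1) = true := by decide +kernel

/-- A fixed point is not among the moved ones. -/
theorem not_moved_of_fix {w : List ℕ} {c : ℕ} (h : wordPerm net w c = c) : (moved w).testBit c = false := by
  have hV : Valid 15 net := Valid.of_check nets_ok fun x hx => by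
    show ([net0, net1, net2, net3, net4, net5, net6, net7, net8, net9] : List (List Stage)).getD x [] = []
    exact List.getD_eq_default _ _ (by simpa using hx)
  suffices ∀ k, (Nat.rec 0 (fun r D => Nat.lor D (Nat.xor (runWord net w (plane r 15)) (plane r 15))) k : ℕ).testBit c =
      false from this 15
  intro k
  induction k with
  | zero => exact Nat.zero_testBit _
  | succ k ih =>
    show ((Nat.rec 0 _ k : ℕ) ||| (runWord net w (plane k 15) ^^^ plane k 15)).testBit c = false
    rw [Nat.testBit_or, ih, Nat.testBit_xor, testBit_runWord hV, h]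
    simp

/-- What centralises the stabiliser is trivial or its central involution. -/
theorem cent_point {m : Spor.Fi23} (h : ∀ x ∈ hLetters, gg x * m = m * gg x) : m = 1 ∨ m = zz := by
  have hfix : ∀ w ∈ hWords, wordPerm net w (act m 0) = act m 0 := by
    intro w hw
    obtain ⟨x, hx, rfl⟩ := List.mem_map.1 hw
    rw [← act_word, word_singleton, ← Equiv.Perm.mul_apply, ← map_mul, h x hx, map_mul, Equiv.Perm.mul_apply,
      pt_h (gg_mem_h hx)]
  have h0 : act m 0 = 0 := by
    have hb : (2 ^ 31671 - 1 : ℕ).testBit (act m 0) = true := by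
      refine (action_closed acts (L := List.range 10) all_closed ?_ 0).trans
        (by rw [Nat.testBit_two_pow_sub_one]; exact decide_eq_true (by norm_num))
      rw [show List.range 10 = List.range gens.length from rfl, letterSub_range CfsgLib.Recog.FiThree.nodes]
      exact Subgroup.mem_top m
    have hnm : (movedAny hWords).testBit (act m 0) = false := by
      rw [Bool.eq_false_iff]
      intro hc
      have hfalse : ∀ (L : List (List ℕ)), (∀ w ∈ L, wordPerm net w (act m 0) = act m 0) →
          (movedAny L).testBit (act m 0) = false := by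
        intro L
        induction L with
        | nil => intro _; exact Nat.zero_testBit _
        | cons w L ih =>
          intro hL
          show (movedAny L ||| moved w).testBit (act m 0) = false
          rw [Nat.testBit_or, ih fun v hv => hL v (List.mem_cons_of_mem _ hv), Bool.false_or]
          exact not_moved_of_fix (hL w List.mem_cons_self)
      rw [hfalse hWords hfix] at hc
      exact Bool.noConfusion hc
    have e := congrArg (fun n => n.testBit (act m 0)) (Nat.eq_of_beq_eq_true moved_all)
    change ((1 ||| movedAny hWords : ℕ)).testBit _ = _ at e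
    rw [Nat.testBit_or, hnm, Bool.or_false, hb] at e
    exact Nat.testBit_one_eq_true_iff_self_eq_zero.1 e
  have hm : m ∈ hSub := mem_h_iff.2 h0
  have hcen : (⟨m, hm⟩ : hSub) ∈ Subgroup.center hSub := by
    refine Subgroup.mem_center_iff.2 fun g => Subtype.ext ?_
    have hle : hSub ≤ Subgroup.centralizer {m} := by
      rw [hSub, letterSub, Subgroup.closure_le]
      rintro _ ⟨x, hx, rfl⟩
      exact Subgroup.mem_centralizer_singleton_iff.2 (h x hx)
    exact Subgroup.mem_centralizer_singleton_iff.1 (hle g.2)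
  rcases center_h ⟨m, hm⟩ hcen with e | e
  · exact Or.inl (congrArg Subtype.val e)
  · exact Or.inr (congrArg Subtype.val e)

theorem nine_ne : gg 9 ≠ 1 := fun h => by
  refine zH_ne_one (Subtype.ext ?_)
  show zz = 1
  calc zz = (word gj)⁻¹ * (word gj * zz * (word gj)⁻¹) * word gj := by group
    _ = 1 := by rw [gj_zz, h]; group

theorem zW_eq : FiThree.zW = YSpider.zW := by decide +kernel

end FiThree

/-- The decidable side conditions of a renaming of the arms. -/
noncomputable def Good (K : List ℕ → Bool) (σ : List ℕ) : Bool :=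
  (relWords Spor.Fi22.edges leg3 Cfsg.Agent.S1687.gens).all (fun w => K (see (comp σ m22) w)) &&
  (relWords Spor.Fi22.edges leg3 Cfsg.Agent.S1687.gens).all (fun w => K (see (comp (comp σ turn) m22) w)) &&
  (relWords Spor.Fi23.edges Spor.Fi23.extra FiThree.gens).all (fun w =>
    K (see (comp σ m23) w) || see (comp σ m23) w == see σ (nine [13, 12, 11, 0, 1, 2, 6])) &&
  SporBound.YArmEnd.cert.rels.all (fun w => K (see (comp σ [0, 1, 2, 3, 4, 5, 6, 7, 11, 12, 13]) w)) &&
  ([(13, 0), (13, 1), (13, 6), (13, 11), (13, 2), (13, 7), (13, 3), (3, 13), (3, 12), (3, 11), (3, 0), (3, 6), (3, 7),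
    (3, 1), (4, 13), (4, 12), (4, 11), (4, 0), (4, 1), (4, 2), (4, 6), (5, 13), (5, 12), (5, 11), (5, 0), (5, 1),
    (5, 2), (5, 3), (5, 6), (5, 7)].all fun p => K (see σ [p.1, p.2, p.1, p.2])) &&
  K (see σ [5, 4, 5, 4, 5, 4]) && (List.range 16).all (fun x => Nat.blt (idx σ x) 16) && Nat.beq σ.length 16

/-- The ninth power that is the end of the arm. -/
def Aw : List ℕ := nine [0, 1, 6, 11, 2, 7, 3]

/-- The ninth power that is the central involution. -/
def Qw : List ℕ := nine [13, 12, 11, 0, 1, 2, 6]

/-- The same central involution. -/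
def Qw' : List ℕ := nine [13, 12, 11, 0, 6, 7, 1]

section View

variable {σ : List ℕ} {K : List ℕ → Bool}

theorem comm_of_word {x y : By} (hx : x * x = 1) (hy : y * y = 1) (h : x * (y * (x * (y * 1))) = 1) :
    Commute x y := by
  rw [mul_one] at h
  show x * y = y * x
  calc x * y = (x * (y * (x * y))) * (y * y)⁻¹ * (y * (x * x)⁻¹ * x) := by group
    _ = y * x := by rw [h, hy, hx]; group

set_option maxHeartbeats 1000000 in
theorem end_eq (hK : ∀ w, K w = true → (w.map gy).prod = 1) (h : Good K σ = true) :
    gy (idx σ 5) = ((see σ (nine [0, 1, 6, 11, 2, 7, 3])).map gy).prod := by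
  simp only [Good, Bool.and_eq_true] at h
  obtain ⟨⟨⟨⟨⟨⟨⟨hX, hXt⟩, hF⟩, hC⟩, hcox⟩, hjoin⟩, hlt⟩, hlen⟩ := h
  have hlt' : ∀ x < 16, idx σ x < 16 := fun x hx => Nat.le_of_ble_eq_true (List.all_eq_true.1 hlt x (List.mem_range.2 hx))
  obtain ⟨ε, hε⟩ := exists_sign
  let g : ℕ → By := fun x => gy (idx σ x)
  have gsq : ∀ x, g x * g x = 1 := fun x => gy_sq _
  have hprod : ∀ w : List ℕ, ((see σ w).map gy).prod = (w.map g).prod := fun w => prod_see σ w
  have hsign : ∀ w : List ℕ, (∀ x ∈ w, x < 16) → ε (w.map g).prod = par w.length := by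
    intro w hw
    rw [← hprod, sign_word hε, see, List.length_map]
    intro y hy
    obtain ⟨x, hx, rfl⟩ := List.mem_map.1 hy
    exact hlt' x (hw x hx)
  have cox : ∀ x y : ℕ, (x, y) ∈ [(13, 0), (13, 1), (13, 6), (13, 11), (13, 2), (13, 7), (13, 3), (3, 13), (3, 12),
      (3, 11), (3, 0), (3, 6), (3, 7), (3, 1), (4, 13), (4, 12), (4, 11), (4, 0), (4, 1), (4, 2), (4, 6), (5, 13),
      (5, 12), (5, 11), (5, 0), (5, 1), (5, 2), (5, 3), (5, 6), (5, 7)] → Commute (g x) (g y) := by
    intro x y hxy
    have := hK _ (List.all_eq_true.1 hcox _ hxy)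
    rw [hprod] at this
    simp only [List.map_cons, List.map_nil, List.prod_cons, List.prod_nil] at this
    exact comm_of_word (gsq x) (gsq y) this
  have comm_word : ∀ (x : ℕ) (w : List ℕ), (∀ y ∈ w, Commute (g x) (g y)) → Commute (g x) (w.map g).prod := by
    intro x w hw
    refine Commute.list_prod_right _ _ fun b hb => ?_
    obtain ⟨y, hy, rfl⟩ := List.mem_map.1 hb
    exact hw y hy
  have h5x : ∀ x ∈ FiThree.hLetters, ((5, m23.getD x 16) : ℕ × ℕ) ∈ [(13, 0), (13, 1), (13, 6), (13, 11), (13, 2),
      (13, 7), (13, 3), (3, 13), (3, 12), (3, 11), (3, 0), (3, 6), (3, 7), (3, 1), (4, 13), (4, 12), (4, 11), (4, 0),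
      (4, 1), (4, 2), (4, 6), (5, 13), (5, 12), (5, 11), (5, 0), (5, 1), (5, 2), (5, 3), (5, 6), (5, 7)] := by
    decide +kernel
  have h5z : ∀ x : Fin 9, m23.getD x 16 = idx m22 x := by decide +kernel
  have hzx : ∀ x ∈ YSpider.zW, m23.getD x 16 = idx m22 x := by decide +kernel
  -- the two ninth powers
  have see_comp : ∀ (ρ m w : List ℕ), (∀ x ∈ w, x < m.length) → see (comp ρ m) w = see ρ (see m w) := by
    intro ρ m w hw
    simp only [see, List.map_map]
    refine List.map_congr_left fun x hx => ?_
    simp [comp, idx, List.getD_eq_getElem, hw x hx]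
  have small : ∀ w : List ℕ, w.any (fun x => Nat.ble 9 x) = false → ∀ x ∈ w, x < 9 := fun w hw x hx => by
    by_contra hge
    exact Bool.false_ne_true
      (hw.symm.trans (List.any_eq_true.2 ⟨x, hx, Nat.ble_eq_true_of_le (not_lt.1 hge)⟩))
  have seeX : ∀ w v : List ℕ, see m22 w = v → w.any (fun x => Nat.ble 9 x) = false →
      ((see (comp σ m22) w).map gy).prod = (v.map g).prod := by
    intro w v hv hw
    rw [see_comp σ m22 w (small w hw), hv, hprod]
  have seeT : ∀ w v : List ℕ, see (comp turn m22) w = v → w.any (fun x => Nat.ble 9 x) = false →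
      ((see (comp (comp σ turn) m22) w).map gy).prod = (v.map g).prod := by
    intro w v hv hw
    rw [see_comp _ m22 w (small w hw), see_comp σ turn (see m22 w), ← see_comp turn m22 w (small w hw), hv, hprod]
    intro y hy
    obtain ⟨x, hx, rfl⟩ := List.mem_map.1 hy
    have hb : ∀ x : Fin 9, idx m22 x < turn.length := by decide +kernel
    exact hb ⟨x, small w hw x hx⟩
  have hq : ∀ x : Fin 9, 1 ≤ (x : ℕ) →
      see (comp turn m22) ((x : ℕ) :: nine [6, 5, 4, 3, 7, 8, 2] ++ [(x : ℕ)]) =
        idx (comp turn m22) x :: Qw ++ [idx (comp turn m22) x] ∧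
      see m22 ((x : ℕ) :: nine [3, 4, 7, 2, 5, 8, 6] ++ [(x : ℕ)]) = idx m22 x :: Aw ++ [idx m22 x] ∧
      ((x : ℕ) :: nine [6, 5, 4, 3, 7, 8, 2] ++ [(x : ℕ)]).any (fun y => Nat.ble 9 y) = false ∧
      ((x : ℕ) :: nine [3, 4, 7, 2, 5, 8, 6] ++ [(x : ℕ)]).any (fun y => Nat.ble 9 y) = false := by decide +kernel
  have hAx : ∀ x : ℕ, 1 ≤ x → x < 9 → Commute (g (idx m22 x)) (Aw.map g).prod := by
    intro x h1 h9
    have e := view_eq (σ := σ) hK hX (u := x :: nine [3, 4, 7, 2, 5, 8, 6] ++ [x]) (w := nine [3, 4, 7, 2, 5, 8, 6])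
      (trivOK_conj triv_U1 h1 h9) triv_U1 (by simp only [List.length_append, List.length_cons, List.length_nil]; decide +kernel)
    have e1 := (seeX (x :: nine [3, 4, 7, 2, 5, 8, 6] ++ [x]) (idx m22 x :: Aw ++ [idx m22 x])
      (hq ⟨x, h9⟩ h1).2.1 (hq ⟨x, h9⟩ h1).2.2.2)
    have e2 := (seeX (nine [3, 4, 7, 2, 5, 8, 6]) Aw (by decide +kernel) (by decide +kernel))
    rw [e1, e2] at e
    rw [List.map_append, List.prod_append, List.map_cons, List.prod_cons, List.map_singleton, List.prod_singleton] at e
    calc g (idx m22 x) * (Aw.map g).prod = g (idx m22 x) * (Aw.map g).prod * (g (idx m22 x) * g (idx m22 x)) := by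
          rw [gsq, mul_one]
      _ = (g (idx m22 x) * (Aw.map g).prod * g (idx m22 x)) * g (idx m22 x) := by group
      _ = _ := by rw [e]
  have hAz : (Aw.map g).prod = ((YSpider.zW.map (idx m22)).map g).prod := by
    have e := view_eq (σ := σ) hK hX (u := nine [3, 4, 7, 2, 5, 8, 6]) (w := YSpider.zW)
      triv_U1 triv_zW (by decide +kernel)
    rwa [(seeX _ Aw (by decide +kernel) (by decide +kernel)),
      (seeX YSpider.zW (YSpider.zW.map (idx m22)) rfl (by decide +kernel))] at e
  have hQQ : (Qw.map g).prod = (Qw'.map g).prod := by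
    have e := view_eq (σ := comp σ turn) hK hXt (u := nine [6, 5, 4, 3, 7, 8, 2]) (w := nine [6, 5, 4, 3, 2, 1, 7])
      triv_U2 triv_U3 (by decide +kernel)
    rwa [seeT _ Qw (by decide +kernel) (by decide +kernel), seeT _ Qw' (by decide +kernel) (by decide +kernel)] at e
  have hQsq : (Qw.map g).prod * (Qw.map g).prod = 1 := by
    have e := view_eq (σ := comp σ turn) hK hXt (u := nine [6, 5, 4, 3, 7, 8, 2] ++ nine [6, 5, 4, 3, 7, 8, 2]) (w := [])
      (trivOK_append triv_U2 triv_U2) triv_nil (by decide +kernel)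
    rw [seeT _ (Qw ++ Qw) (by decide +kernel) (by decide +kernel), seeT _ [] rfl rfl, List.map_append,
      List.prod_append] at e
    exact e
  have hQx : ∀ x : ℕ, 1 ≤ x → x < 9 → Commute (g (idx (comp turn m22) x)) (Qw.map g).prod := by
    intro x h1 h9
    have e := view_eq (σ := comp σ turn) hK hXt (u := x :: nine [6, 5, 4, 3, 7, 8, 2] ++ [x])
      (w := nine [6, 5, 4, 3, 7, 8, 2])
      (trivOK_conj triv_U2 h1 h9) triv_U2 (by simp only [List.length_append, List.length_cons, List.length_nil]; decide +kernel)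
    rw [seeT (x :: nine [6, 5, 4, 3, 7, 8, 2] ++ [x]) (idx (comp turn m22) x :: Qw ++ [idx (comp turn m22) x])
      (hq ⟨x, h9⟩ h1).1 (hq ⟨x, h9⟩ h1).2.2.1,
      seeT _ Qw (by decide +kernel) (by decide +kernel)] at e
    rw [List.map_append, List.prod_append, List.map_cons, List.prod_cons, List.map_singleton, List.prod_singleton] at e
    set c := g (idx (comp turn m22) x)
    calc c * (Qw.map g).prod = c * (Qw.map g).prod * (c * c) := by rw [gsq, mul_one]
      _ = (c * (Qw.map g).prod * c) * c := by group
      _ = _ := by rw [e]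
  -- the subgroup of Y342
  let t₀ : ℕ → By := fun x => g (m23.getD x 16)
  have hg16 : ∀ x, 16 ≤ x → g x = 1 := fun x hx => by
    show gy (idx σ x) = 1
    rw [idx, List.getD_eq_default _ _ (by rw [Nat.eq_of_beq_eq_true hlen]; exact hx), gy_big le_rfl]
  let H : Subgroup By := Subgroup.closure (Set.range t₀)
  have memH : ∀ x ∈ [13, 12, 11, 0, 1, 2, 3, 6, 7, 4], g x ∈ H := by
    intro x hx
    obtain ⟨i, hi, rfl⟩ := List.getElem_of_mem (show x ∈ m23 from hx)
    exact Subgroup.subset_closure ⟨i, by simp only [t₀, List.getD_eq_getElem _ _ hi]⟩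
  have wordH : ∀ w : List ℕ, w.all ([13, 12, 11, 0, 1, 2, 3, 6, 7, 4].contains ·) = true → (w.map g).prod ∈ H :=
    fun w hw => Subgroup.list_prod_mem _ fun b hb => by
      obtain ⟨y, hy, rfl⟩ := List.mem_map.1 hb
      exact memH y (List.contains_iff_mem.1 (List.all_eq_true.1 hw y hy))
  have hQc : H ≤ Subgroup.centralizer {(Qw.map g).prod} := by
    rw [Subgroup.closure_le]
    rintro _ ⟨i, rfl⟩
    refine Subgroup.mem_centralizer_singleton_iff.2 (Commute.eq ?_)
    by_cases hi : i < 10
    · have hx : ∀ j : Fin 10, (∃ x : Fin 9, 1 ≤ (x : ℕ) ∧ idx (comp turn m22) x = m23.getD j 16) ∨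
          m23.getD j 16 = 3 ∨ m23.getD j 16 = 4 := by decide +kernel
      show Commute (g (m23.getD i 16)) _
      rcases hx ⟨i, hi⟩ with ⟨x, h1, e⟩ | e | e
      · simp only at e; rw [← e]; exact hQx x h1 x.2
      · simp only at e; rw [e, hQQ]
        exact comm_word 3 Qw' fun y hy => cox 3 y (by revert y; decide +kernel)
      · simp only at e; rw [e]
        exact comm_word 4 Qw fun y hy => cox 4 y (by revert y; decide +kernel)
    · show Commute (g (m23.getD i 16)) _
      rw [List.getD_eq_default _ _ (by simpa [m23] using hi), hg16 16 le_rfl]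
      exact Commute.one_left _
  let qH : ↥H := ⟨_, wordH Qw (by decide +kernel)⟩
  let Z : Subgroup ↥H := Subgroup.zpowers qH
  have hZn : Z.Normal := ⟨fun n hn k => by
    have hc : Commute k qH := Subtype.ext (Subgroup.mem_centralizer_singleton_iff.1 (hQc k.2))
    obtain ⟨j, rfl⟩ := Subgroup.mem_zpowers_iff.1 hn
    rw [(hc.zpow_right j).eq, mul_inv_cancel_right]
    exact Subgroup.zpow_mem_zpowers qH j⟩
  let mk : ↥H →* ↥H ⧸ Z := QuotientGroup.mk' Z
  let t : ℕ → ↥H := fun x => ⟨t₀ x, Subgroup.subset_closure ⟨x, rfl⟩⟩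
  have htval : ∀ w : List ℕ, ((w.map t).prod : By) = (w.map t₀).prod := fun w => by
    rw [SubmonoidClass.coe_list_prod, List.map_map]; rfl
  have ht₀ : ∀ w : List ℕ, (w.map t₀).prod = ((see (comp σ m23) w).map gy).prod := fun w => by
    rw [prod_see]
    refine congrArg List.prod (List.map_congr_left fun x _ => ?_)
    show gy (idx σ (m23.getD x 16)) = gy (idx (comp σ m23) x)
    by_cases hx : x < m23.length
    · simp only [idx, comp, List.getD_eq_getElem _ _ hx, List.getD_eq_getElem (List.map _ m23) 16 (by simpa using hx),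
        List.getElem_map]
    · rw [List.getD_eq_default _ _ (not_lt.1 hx)]
      simp only [comp, idx, List.getD_eq_default (List.map _ m23) 16 (by simpa using hx), gy_big le_rfl]
      exact hg16 16 le_rfl
  obtain ⟨ψ, hψ⟩ := exists_hom (edges := Spor.Fi23.edges) (extra := Spor.Fi23.extra) (gens := FiThree.gens)
    (show FiThree.gens.Nodup by decide) (fun x => mk (t x))
    (fun x => by rw [← map_mul, show t x * t x = 1 from Subtype.ext (gsq _), map_one])
    (fun x hx => by
      rw [show t x = 1 from Subtype.ext (by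
        show g (m23.getD x 16) = 1
        rw [List.getD_eq_default _ _ (show m23.length ≤ x from hx), hg16 16 le_rfl]), map_one])
    (fun w hw => by
      rw [show (w.map fun x => mk (t x)).prod = mk (w.map t).prod by rw [map_list_prod, List.map_map]; rfl]
      have h' := List.all_eq_true.1 hF w hw
      rw [Bool.or_eq_true, beq_iff_eq] at h'
      refine (QuotientGroup.eq_one_iff _).2 ?_
      rcases h' with h' | h'
      · rw [show (w.map t).prod = 1 from Subtype.ext (by rw [htval, ht₀]; exact hK _ h')]
        exact one_mem _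
      · rw [show (w.map t).prod = qH from Subtype.ext (by rw [htval, ht₀, h', hprod]; rfl)]
        exact Subgroup.mem_zpowers _)
  have hψs : Function.Surjective ψ := by
    intro q
    obtain ⟨k, rfl⟩ := QuotientGroup.mk'_surjective Z q
    have key : (⊤ : Subgroup ↥H) ≤ (ψ.range).comap mk := by
      rw [← Subgroup.closure_closure_coe_preimage (k := Set.range t₀), Subgroup.closure_le]
      rintro ⟨_, _⟩ ⟨i, rfl⟩
      exact ⟨_, hψ i⟩
    exact key (Subgroup.mem_top k)
  have hZ2 : ∀ k ∈ Z, k = 1 ∨ k = qH := by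
    intro k hk
    obtain ⟨j, rfl⟩ := Subgroup.mem_zpowers_iff.1 hk
    have hq2 : qH ^ (2 : ℤ) = 1 := by rw [zpow_two]; exact Subtype.ext hQsq
    rcases Int.even_or_odd' j with ⟨i, rfl | rfl⟩
    · exact Or.inl (by rw [zpow_mul, hq2, one_zpow])
    · exact Or.inr (by rw [zpow_add, zpow_mul, hq2, one_zpow, one_mul, zpow_one])
  haveI : Finite Z := Finite.of_surjective (fun b : Bool => if b then (1 : Z) else ⟨qH, Subgroup.mem_zpowers _⟩)
    fun k => by rcases hZ2 k k.2 with e | e
                · exact ⟨true, Subtype.ext e.symm⟩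
                · exact ⟨false, Subtype.ext e.symm⟩
  haveI := FiThree.finite_fi23
  haveI : Finite (↥H ⧸ Z) := Finite.of_surjective _ hψs
  haveI : Finite ↥H := Finite.of_subgroup_quotient Z
  -- the end of the arm lies in it
  let a : ℕ → By := fun x => g ([0, 1, 2, 3, 4, 5, 6, 7, 11, 12, 13].getD x 16)
  have ha : ∀ w : List ℕ, (w.map a).prod = ((see (comp σ [0, 1, 2, 3, 4, 5, 6, 7, 11, 12, 13]) w).map gy).prod :=
    fun w => by
    rw [prod_see]
    refine congrArg List.prod (List.map_congr_left fun x _ => ?_)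
    show gy (idx σ _) = gy (idx _ x)
    by_cases hx : x < 11
    · simp only [idx, comp]
      rw [List.getD_eq_getElem (List.map _ _) 16 (by simpa using hx), List.getElem_map,
        List.getD_eq_getElem ([0, 1, 2, 3, 4, 5, 6, 7, 11, 12, 13] : List ℕ) 16 (by simpa using hx)]
      rfl
    · rw [List.getD_eq_default _ _ (by simpa using hx)]
      simp only [comp, idx, List.getD_eq_default (List.map _ _) 16 (show (List.map _ [0, 1, 2, 3, 4, 5, 6, 7, 11, 12, 13]).length ≤ x by simpa using hx), gy_big le_rfl]
      exact hg16 16 le_rfl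
  let K : Subgroup By := Subgroup.closure {k | ∃ x ∈ SporBound.YArmEnd.cert.kl, k = a x}
  have hHK : H ≤ K := by
    rw [Subgroup.closure_le]
    rintro _ ⟨i, rfl⟩
    by_cases hi : i < 10
    · have hj : ∀ j : Fin 10, ∃ x ∈ SporBound.YArmEnd.cert.kl,
          ([0, 1, 2, 3, 4, 5, 6, 7, 11, 12, 13] : List ℕ).getD x 16 = m23.getD j 16 := by decide +kernel
      obtain ⟨x, hx, e⟩ := hj ⟨i, hi⟩
      exact Subgroup.subset_closure ⟨x, hx, (congrArg g e).symm⟩
    · show g (m23.getD i 16) ∈ K
      rw [List.getD_eq_default _ _ (by simpa [m23] using hi), hg16 16 le_rfl]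
      exact one_mem _
  obtain ⟨hKf, hKle⟩ := Cert.card_le (a := a) (fun x => gsq _)
    (by show g _ = 1; rw [List.getD_eq_default _ _ (by decide)]; exact hg16 16 le_rfl)
    SporBound.YArmEnd.ok H K
    (fun w hw => by rw [ha]; exact hK _ (List.all_eq_true.1 hC w hw))
    (fun w hw => by
      have hs : SporBound.YArmEnd.cert.subs.all (fun w => w.all fun x =>
          [13, 12, 11, 0, 1, 2, 3, 6, 7, 4].contains (([0, 1, 2, 3, 4, 5, 6, 7, 11, 12, 13] : List ℕ).getD x 16)) = true := by
        decide +kernel
      refine Subgroup.list_prod_mem _ fun b hb => ?_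
      obtain ⟨y, hy, rfl⟩ := List.mem_map.1 hb
      exact memH _ (List.contains_iff_mem.1 (List.all_eq_true.1 (List.all_eq_true.1 hs w hw) y hy)))
    le_rfl
  rw [show SporBound.YArmEnd.cert.n = 1 from rfl, one_mul] at hKle
  have hKH : H = K := Subgroup.eq_of_le_of_card_ge hHK hKle
  have hf : g 5 ∈ H := by
    rw [hKH]
    exact Subgroup.subset_closure ⟨5, by decide +kernel, rfl⟩
  -- the product centralises the stabiliser
  have hAH : (Aw.map g).prod ∈ H := wordH Aw (by decide +kernel)
  let fH : ↥H := ⟨g 5, hf⟩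
  let aH : ↥H := ⟨_, hAH⟩
  suffices fH * aH⁻¹ ∈ Z ∧ ε (g 5) = par 1 ∧ ε (Aw.map g).prod = par 1 by
    obtain ⟨hmem, h5, hA1⟩ := this
    rcases hZ2 _ hmem with e | e
    · rw [hprod]
      exact congrArg Subtype.val (mul_inv_eq_one.1 e)
    · exfalso
      have e' : g 5 * ((Aw.map g).prod)⁻¹ = (Qw.map g).prod := congrArg Subtype.val e
      have := congrArg ε e'
      rw [map_mul, map_inv, h5, hA1, mul_inv_cancel, hsign Qw (by decide +kernel)] at this
      exact absurd this (by decide +kernel)
  refine ⟨?_, hε _ (hlt' 5 (by norm_num)), (hsign Aw (by decide +kernel)).trans (by decide +kernel)⟩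
  obtain ⟨m, hm⟩ := hψs (mk (fH * aH⁻¹))
  have := FiThree.isSimple_fi23
  rcases IsSimpleGroup.eq_bot_or_eq_top_of_normal ψ.ker inferInstance with hbot | htop
  · have hinj : Function.Injective ψ := (MonoidHom.ker_eq_bot_iff ψ).1 hbot
    have hcm : ∀ x ∈ FiThree.hLetters, FiThree.gg x * m = m * FiThree.gg x := by
      intro x hx
      refine hinj ?_
      rw [map_mul, map_mul, hm, hψ, ← map_mul, ← map_mul]
      refine congrArg mk (Subtype.ext ?_)
      show g (m23.getD x 16) * (g 5 * ((Aw.map g).prod)⁻¹) = g 5 * ((Aw.map g).prod)⁻¹ * g (m23.getD x 16)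
      have hx9 : x < 9 := by
        simp only [FiThree.hLetters, List.mem_cons, List.not_mem_nil, or_false] at hx; omega
      have c5 : Commute (g 5) (g (m23.getD x 16)) := cox 5 _ (h5x x hx)
      have cA : Commute (g (m23.getD x 16)) (Aw.map g).prod := by
        rcases Nat.eq_zero_or_pos x with rfl | h1
        · exact comm_word 13 Aw fun y hy => cox 13 y (by revert y; decide +kernel)
        · have e : m23.getD x 16 = idx m22 x := (h5z ⟨x, hx9⟩)
          rw [e]; exact hAx x h1 hx9
      exact (c5.symm.mul_right cA.inv_right).eq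
    rcases cent_point hcm with rfl | rfl
    · rw [map_one] at hm
      exact (QuotientGroup.eq_one_iff _).1 hm.symm
    · exfalso
      have hz : ψ FiThree.zz = mk aH := by
        rw [FiThree.zz, FiThree.word, map_list_prod, List.map_map,
          List.map_congr_left (f := ⇑ψ ∘ FiThree.gg) (g := fun x => mk (t x)) (fun x _ => hψ x),
          show (FiThree.zW.map fun x => mk (t x)).prod = mk (FiThree.zW.map t).prod by
            rw [map_list_prod, List.map_map]; rfl]
        refine congrArg mk (Subtype.ext ?_)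
        rw [htval, zW_eq]
        show _ = (Aw.map g).prod
        rw [hAz]
        refine congrArg List.prod ?_
        rw [List.map_map]
        refine List.map_congr_left fun x hx => ?_
        show g (m23.getD x 16) = g (idx m22 x)
        exact congrArg g (hzx x hx)
      rw [hz] at hm
      have h2 : aH * aH = 1 := Subtype.ext (by
        show (Aw.map g).prod * (Aw.map g).prod = 1
        have e := view_eq (σ := σ) hK hX (u := nine [3, 4, 7, 2, 5, 8, 6] ++ nine [3, 4, 7, 2, 5, 8, 6]) (w := [])
          (trivOK_append triv_U1 triv_U1) triv_nil (by decide +kernel)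
        rwa [(seeX _ (Aw ++ Aw) (by decide +kernel) (by decide +kernel)),
          (seeX [] [] rfl (by decide +kernel)), List.map_append, List.prod_append] at e)
      have hinv : (mk aH)⁻¹ = mk aH := inv_eq_of_mul_eq_one_right (by rw [← map_mul, h2, map_one])
      rw [map_mul, map_inv, hinv] at hm
      have hf1 : mk fH = 1 := mul_eq_right.1 hm.symm
      have hbr : fH * (t 9 * (fH * (t 9 * (fH * (t 9 * 1))))) = 1 := Subtype.ext (by
        have := hK _ hjoin
        rw [hprod] at this
        exact this)
      have h9 : mk (t 9) = 1 := by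
        have h3 := congrArg mk hbr
        simp only [map_mul, map_one, hf1, one_mul, mul_one] at h3
        have h22 : mk (t 9) * mk (t 9) = 1 := by rw [← map_mul, show t 9 * t 9 = 1 from Subtype.ext (gsq _), map_one]
        rwa [h22, mul_one] at h3
      exact nine_ne (hinj (by rw [hψ, h9, map_one]))
  · refine (QuotientGroup.eq_one_iff _).1 ?_
    show mk (fH * aH⁻¹) = 1
    rw [← hm]
    exact MonoidHom.mem_ker.1 (htop ▸ Subgroup.mem_top m)

end View

end CfsgLib.Recog.YSpider
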