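import Cfsg.Agent.Lib.Recog.YSpider.Cover

/-!
# The words that are trivial in Fi22
-/

set_option autoImplicit false
set_option maxRecDepth 20000
set_option Elab.async false

namespace CfsgLib.Recog.YSpider

open Cfsg CfsgLib.Recog.SporBound CfsgLib.ThreeTrans.CosetIndex

/-- The ninth power of seven letters on the long arm's side. -/
def U1 : List ℕ := (List.replicate 9 [3, 4, 7, 2, 5, 8, 6]).flatten

/-- The ninth power of seven letters after moving each arm back by one. -/
def U2 : List ℕ := (List.replicate 9 [6, 5, 4, 3, 7, 8, 2]).flatten

/-- The same with two legs exchanged. -/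
def U3 : List ℕ := (List.replicate 9 [6, 5, 4, 3, 2, 1, 7]).flatten

/-- The relation of the three legs in the other order. -/
def U4 : List ℕ := (List.replicate 10 [3, 4, 5, 3, 2, 1, 3, 7, 8]).flatten

theorem triv_U1_part0 : partOK 0 U1 = true := by decide +kernel

theorem triv_U1_part1 : partOK 390 U1 = true := by decide +kernel

theorem triv_U1_part2 : partOK 780 U1 = true := by decide +kernel

theorem triv_U1_part3 : partOK 1170 U1 = true := by decide +kernel

theorem triv_U1_part4 : partOK 1560 U1 = true := by decide +kernel

theorem triv_U1_part5 : partOK 1950 U1 = true := by decide +kernel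

theorem triv_U1_part6 : partOK 2340 U1 = true := by decide +kernel

theorem triv_U1_part7 : partOK 2730 U1 = true := by decide +kernel

theorem triv_U1_part8 : partOK 3120 U1 = true := by decide +kernel

theorem triv_U1 : trivOK U1 = true :=
  triv_of_parts [0, 390, 780, 1170, 1560, 1950, 2340, 2730, 3120] (by decide +kernel) (by decide +kernel) (by
    simp only [List.mem_cons, List.not_mem_nil, or_false, forall_eq_or_imp, forall_eq]
    exact ⟨triv_U1_part0, triv_U1_part1, triv_U1_part2, triv_U1_part3, triv_U1_part4, triv_U1_part5, triv_U1_part6, triv_U1_part7, triv_U1_part8⟩)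

theorem triv_U2_part0 : partOK 0 U2 = true := by decide +kernel

theorem triv_U2_part1 : partOK 390 U2 = true := by decide +kernel

theorem triv_U2_part2 : partOK 780 U2 = true := by decide +kernel

theorem triv_U2_part3 : partOK 1170 U2 = true := by decide +kernel

theorem triv_U2_part4 : partOK 1560 U2 = true := by decide +kernel

theorem triv_U2_part5 : partOK 1950 U2 = true := by decide +kernel

theorem triv_U2_part6 : partOK 2340 U2 = true := by decide +kernel

theorem triv_U2_part7 : partOK 2730 U2 = true := by decide +kernel

theorem triv_U2_part8 : partOK 3120 U2 = true := by decide +kernel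

theorem triv_U2 : trivOK U2 = true :=
  triv_of_parts [0, 390, 780, 1170, 1560, 1950, 2340, 2730, 3120] (by decide +kernel) (by decide +kernel) (by
    simp only [List.mem_cons, List.not_mem_nil, or_false, forall_eq_or_imp, forall_eq]
    exact ⟨triv_U2_part0, triv_U2_part1, triv_U2_part2, triv_U2_part3, triv_U2_part4, triv_U2_part5, triv_U2_part6, triv_U2_part7, triv_U2_part8⟩)

theorem triv_U3_part0 : partOK 0 U3 = true := by decide +kernel

theorem triv_U3_part1 : partOK 390 U3 = true := by decide +kernel

theorem triv_U3_part2 : partOK 780 U3 = true := by decide +kernel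

theorem triv_U3_part3 : partOK 1170 U3 = true := by decide +kernel

theorem triv_U3_part4 : partOK 1560 U3 = true := by decide +kernel

theorem triv_U3_part5 : partOK 1950 U3 = true := by decide +kernel

theorem triv_U3_part6 : partOK 2340 U3 = true := by decide +kernel

theorem triv_U3_part7 : partOK 2730 U3 = true := by decide +kernel

theorem triv_U3_part8 : partOK 3120 U3 = true := by decide +kernel

theorem triv_U3 : trivOK U3 = true :=
  triv_of_parts [0, 390, 780, 1170, 1560, 1950, 2340, 2730, 3120] (by decide +kernel) (by decide +kernel) (by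
    simp only [List.mem_cons, List.not_mem_nil, or_false, forall_eq_or_imp, forall_eq]
    exact ⟨triv_U3_part0, triv_U3_part1, triv_U3_part2, triv_U3_part3, triv_U3_part4, triv_U3_part5, triv_U3_part6, triv_U3_part7, triv_U3_part8⟩)

theorem triv_U4_part0 : partOK 0 U4 = true := by decide +kernel

theorem triv_U4_part1 : partOK 390 U4 = true := by decide +kernel

theorem triv_U4_part2 : partOK 780 U4 = true := by decide +kernel

theorem triv_U4_part3 : partOK 1170 U4 = true := by decide +kernel

theorem triv_U4_part4 : partOK 1560 U4 = true := by decide +kernel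

theorem triv_U4_part5 : partOK 1950 U4 = true := by decide +kernel

theorem triv_U4_part6 : partOK 2340 U4 = true := by decide +kernel

theorem triv_U4_part7 : partOK 2730 U4 = true := by decide +kernel

theorem triv_U4_part8 : partOK 3120 U4 = true := by decide +kernel

theorem triv_U4 : trivOK U4 = true :=
  triv_of_parts [0, 390, 780, 1170, 1560, 1950, 2340, 2730, 3120] (by decide +kernel) (by decide +kernel) (by
    simp only [List.mem_cons, List.not_mem_nil, or_false, forall_eq_or_imp, forall_eq]
    exact ⟨triv_U4_part0, triv_U4_part1, triv_U4_part2, triv_U4_part3, triv_U4_part4, triv_U4_part5, triv_U4_part6, triv_U4_part7, triv_U4_part8⟩)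


theorem triv_nil : trivOK [] = true := by decide +kernel

theorem trivOK_iff {w : List ℕ} : trivOK w = true ↔
    (∀ c < FiHat3510.data.n, FiHat3510.data.trace c w = c) ∧ ∀ x ∈ w, 1 ≤ x ∧ x < 9 := by
  simp [trivOK, List.all_eq_true, Nat.blt_eq]

theorem trace_append (u v : List ℕ) : ∀ c, FiHat3510.data.trace c (u ++ v) =
    FiHat3510.data.trace (FiHat3510.data.trace c u) v := by
  induction u with
  | nil => intro c; rfl
  | cons x u ih => intro c; exact ih _

theorem trivOK_append {u v : List ℕ} (hu : trivOK u = true) (hv : trivOK v = true) : trivOK (u ++ v) = true := by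
  rw [trivOK_iff] at hu hv ⊢
  refine ⟨fun c hc => by rw [trace_append, hu.1 c hc, hv.1 c hc], fun x hx => ?_⟩
  rcases List.mem_append.1 hx with h | h
  exacts [hu.2 x h, hv.2 x h]

theorem trivOK_conj {u : List ℕ} {x : ℕ} (hu : trivOK u = true) (h1 : 1 ≤ x) (h9 : x < 9) :
    trivOK (x :: u ++ [x]) = true := by
  rw [trivOK_iff] at hu ⊢
  refine ⟨fun c hc => ?_, fun y hy => ?_⟩
  · show FiHat3510.data.trace (FiHat3510.data.tab c x) (u ++ [x]) = c
    have hr := Data.tab_row FiHat3510.valid hc x
    rw [trace_append, hu.1 _ hr.1]
    exact hr.2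
  · simp only [List.cons_append, List.mem_cons, List.mem_append, List.not_mem_nil, or_false] at hy
    rcases hy with rfl | hy | rfl
    exacts [⟨h1, h9⟩, hu.2 y hy, ⟨h1, h9⟩]

end CfsgLib.Recog.YSpider
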