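import Cfsg.Agent.Lib.Recog.YSpider.Trivial
import Cfsg.Prelude.Def_Spor_M

/-!
# Views of smaller diagrams inside Y555 with the spider relation
-/

set_option autoImplicit false
set_option maxRecDepth 20000
set_option Elab.async false

namespace CfsgLib.Recog.YSpider

open Cfsg CfsgLib.Recog.SporBound CfsgLib.ThreeTrans.CosetIndex

/-- The relation of the three legs in Y555. -/
def leg5 : List (FreeGroup Spor.Bimonster.Gen) := [(Spor.Bimonster.a * Spor.Bimonster.b1 * Spor.Bimonster.c1 *
  Spor.Bimonster.a * Spor.Bimonster.b2 * Spor.Bimonster.c2 * Spor.Bimonster.a * Spor.Bimonster.b3 *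
  Spor.Bimonster.c3) ^ 10]

/-- The sixteen letters. -/
def gensY : List Spor.Bimonster.Gen :=
  [.a, .b1, .c1, .d1, .e1, .f1, .b2, .c2, .d2, .e2, .f2, .b3, .c3, .d3, .e3, .f3]

/-- The group. -/
abbrev By : Type := Spor.CoxPresented Spor.Bimonster.Gen Spor.Bimonster.edges leg5

/-- Its letters; from sixteen on they are trivial. -/
abbrev gy (x : ℕ) : By := gen Spor.Bimonster.edges leg5 gensY x

theorem nodes_y : ∀ y : Spor.Bimonster.Gen, y ∈ Spor.coxNodes Spor.Bimonster.edges ∧ y ∈ gensY := by
  intro y; cases y <;> decide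

theorem gy_idxOf (y : Spor.Bimonster.Gen) : gy (gensY.idxOf y) = PresentedGroup.of y := by
  rw [gy, gen, List.getElem?_eq_getElem (List.idxOf_lt_length_iff.2 (nodes_y y).2), List.getElem_idxOf]
  rfl

theorem gy_sq (x : ℕ) : gy x * gy x = 1 := by
  unfold gy gen
  cases gensY[x]? with
  | none => simp
  | some y =>
    have h := PresentedGroup.one_of_mem (rels := Spor.coxRelators Spor.Bimonster.edges ∪ {r | r ∈ leg5})
      (show (FreeGroup.of y * FreeGroup.of y) ^ Spor.coxLabel Spor.Bimonster.edges y y ∈ _ from
        Or.inl ⟨y, (nodes_y y).1, y, (nodes_y y).1, rfl⟩)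
    rw [Spor.coxLabel, if_pos rfl, pow_one, map_mul] at h
    exact h

theorem gy_big {x : ℕ} (hx : 16 ≤ x) : gy x = 1 := by
  rw [gy, gen, List.getElem?_eq_none (show gensY.length ≤ x from hx)]
  rfl

theorem mk_prod (r : FreeGroup Spor.Bimonster.Gen) :
    PresentedGroup.mk (Spor.coxRelators Spor.Bimonster.edges ∪ {r | r ∈ leg5}) r =
      ((letters gensY r).map gy).prod :=
  hom_eq_prod gensY _ _ (fun y => (gy_idxOf y).symm) gy_sq r

theorem rel_y {w : List ℕ} (hw : w ∈ relWords Spor.Bimonster.edges leg5 gensY) : (w.map gy).prod = 1 := by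
  obtain ⟨r, hr, rfl⟩ : ∃ r ∈ Spor.coxRelators Spor.Bimonster.edges ∪ {r | r ∈ leg5}, letters gensY r = w := by
    rw [relWords, List.mem_append] at hw
    rcases hw with hmem | hmem
    · obtain ⟨x, hx, hmem⟩ := List.mem_flatMap.1 hmem
      obtain ⟨y, hy, rfl⟩ := List.mem_map.1 hmem
      exact ⟨_, Or.inl ⟨x, hx, y, hy, rfl⟩, rfl⟩
    · obtain ⟨r, hr, rfl⟩ := List.mem_map.1 hmem
      exact ⟨r, Or.inr hr, rfl⟩
  rw [← mk_prod]
  exact PresentedGroup.one_of_mem hr

/-- Two letters are joined. -/
def joined (x y : ℕ) : Bool :=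
  [(0, 1), (0, 6), (0, 11), (1, 2), (2, 3), (3, 4), (4, 5), (6, 7), (7, 8), (8, 9), (9, 10), (11, 12), (12, 13),
    (13, 14), (14, 15)].any fun e => (e.1 == x && e.2 == y) || (e.1 == y && e.2 == x)

/-- The relation word of two letters. -/
def coxWord (x y : ℕ) : List ℕ :=
  if x = y then [x, x] else if joined x y then [x, y, x, y, x, y] else [x, y, x, y]

/-- The three legs, nine letters. -/
def legWord (a b c : ℕ) : List ℕ :=
  (List.replicate 10 [0, 5 * a + 1, 5 * a + 2, 0, 5 * b + 1, 5 * b + 2, 0, 5 * c + 1, 5 * c + 2]).flatten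

/-- Words known to be trivial in the group. -/
def baseWords : List (List ℕ) :=
  [16] :: ((List.range 16).flatMap fun x => (List.range 16).map fun y => coxWord x y) ++ [legWord 0 1 2]

theorem base_one : ∀ w ∈ baseWords, (w.map gy).prod = 1 := by
  have hc : gensY.all (fun x => gensY.all fun y =>
      letters gensY ((FreeGroup.of x * FreeGroup.of y) ^ Spor.coxLabel Spor.Bimonster.edges x y) ==
        coxWord (gensY.idxOf x) (gensY.idxOf y)) = true := by decide +kernel
  have hl : (leg5.map (letters gensY) == [legWord 0 1 2]) = true := by decide +kernel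
  intro w hw
  rcases List.mem_cons.1 hw with rfl | hw
  · simp [gy_big (le_refl 16)]
  rcases List.mem_append.1 hw with hw | hw
  · obtain ⟨i, hi, hw⟩ := List.mem_flatMap.1 hw
    obtain ⟨j, hj, rfl⟩ := List.mem_map.1 hw
    rw [List.mem_range] at hi hj
    have hi' : i < gensY.length := hi
    have hj' : j < gensY.length := hj
    have hnd : gensY.Nodup := by decide
    have h := List.all_eq_true.1 (List.all_eq_true.1 hc (gensY[i]'hi') (List.getElem_mem _)) (gensY[j]'hj')
      (List.getElem_mem _)
    rw [beq_iff_eq, hnd.idxOf_getElem _ hi', hnd.idxOf_getElem _ hj'] at h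
    rw [← h, ← mk_prod]
    exact PresentedGroup.one_of_mem (Or.inl ⟨_, (nodes_y _).1, _, (nodes_y _).1, rfl⟩)
  · rw [beq_iff_eq] at hl
    refine rel_y (List.mem_append_right _ ?_)
    rw [hl]
    exact hw

/-- A fast test for known trivial words: a Coxeter relation, or a rotation of one of the long words. -/
def known (longs : List (List ℕ)) (w : List ℕ) : Bool :=
  bif Nat.ble w.length 6 then
    w == [16] || (match w with
      | x :: y :: _ => w == coxWord x y && Nat.blt x 16 && Nat.blt y 16
      | _ => false)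
  else rotMem longs w

theorem known_one {longs : List (List ℕ)} (hlong : ∀ w ∈ longs, (w.map gy).prod = 1) (w : List ℕ)
    (h : known longs w = true) : (w.map gy).prod = 1 := by
  unfold known at h
  cases hb : Nat.ble w.length 6 with
  | false =>
    rw [hb, cond_false] at h
    exact prod_rotMem gy h hlong
  | true =>
    rw [hb, cond_true, Bool.or_eq_true, beq_iff_eq] at h
    rcases h with rfl | h
    · exact base_one _ List.mem_cons_self
    · rcases w with _ | ⟨x, _ | ⟨y, w'⟩⟩
      · exact Bool.noConfusion h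
      · exact Bool.noConfusion h
      · dsimp only at h
        rw [Bool.and_eq_true, Bool.and_eq_true, beq_iff_eq, Nat.blt_eq, Nat.blt_eq] at h
        rw [h.1.1]
        exact base_one _ (List.mem_cons_of_mem _ (List.mem_append_left _ (List.mem_flatMap.2
          ⟨x, List.mem_range.2 h.1.2, List.mem_map.2 ⟨y, List.mem_range.2 h.2, rfl⟩⟩)))

/-- The index of a letter in a view. -/
def idx (m : List ℕ) (x : ℕ) : ℕ := m.getD x 16

/-- A view followed by a renaming. -/
def comp (σ m : List ℕ) : List ℕ := m.map (idx σ)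

/-- The word seen through a view. -/
def see (m : List ℕ) (w : List ℕ) : List ℕ := w.map (idx m)

theorem prod_see (m w : List ℕ) : ((see m w).map gy).prod = (w.map fun x => gy (idx m x)).prod := by
  rw [see, List.map_map]; rfl

/-- A view of a presented group through known words. -/
theorem exists_view {α : Type} [DecidableEq α] {edges : List (α × ℕ × α)} {extra : List (FreeGroup α)}
    {gens : List α} (hnd : gens.Nodup) {K : List ℕ → Bool} (hK : ∀ w, K w = true → (w.map gy).prod = 1) {m : List ℕ}
    (hlen : m.length = gens.length)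
    (h : (relWords edges extra gens).all (fun w => K (see m w)) = true) :
    ∃ φ : Spor.CoxPresented α edges extra →* By, ∀ x, φ (gen edges extra gens x) = gy (idx m x) := by
  refine exists_hom hnd (fun x => gy (idx m x)) (fun x => gy_sq _) (fun x hx => ?_) fun w hw => ?_
  · rw [idx, List.getD_eq_default _ _ (hlen ▸ hx), gy_big le_rfl]
  · rw [← prod_see]
    exact hK _ (List.all_eq_true.1 h w hw)

/-- The letters of Y332 inside Y555. -/
def m22 : List ℕ := [13, 12, 11, 0, 1, 2, 3, 6, 7]

/-- The letters of Y342 inside Y555. -/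
def m23 : List ℕ := [13, 12, 11, 0, 1, 2, 3, 6, 7, 4]

/-- Moving each arm back by one. -/
def turn : List ℕ := [0, 11, 12, 13, 14, 15, 1, 2, 3, 4, 5, 6, 7, 8, 9, 10]

/-- The Coxeter word of seven letters, nine times. -/
def nine (w : List ℕ) : List ℕ := (List.replicate 9 w).flatten

theorem view_eq {σ : List ℕ} {K : List ℕ → Bool} (hK : ∀ w, K w = true → (w.map gy).prod = 1)
    (h : (relWords Spor.Fi22.edges leg3 Cfsg.Agent.S1687.gens).all (fun w => K (see (comp σ m22) w)) = true)
    {u w : List ℕ} (hu : trivOK u = true) (hw : trivOK w = true) (hp : u.length % 2 = w.length % 2) :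
    ((see (comp σ m22) u).map gy).prod = ((see (comp σ m22) w).map gy).prod := by
  obtain ⟨φ, hφ⟩ := exists_view Cfsg.Agent.S1687.fits.nodup hK (m := comp σ m22) rfl h
  rw [prod_see, prod_see,
    List.map_congr_left (g := fun x => φ (px x)) (fun x _ => (hφ x).symm),
    List.map_congr_left (l := w) (g := fun x => φ (px x)) (fun x _ => (hφ x).symm)]
  have := congrArg φ (word_eq hu hw hp)
  rwa [map_list_prod, map_list_prod, List.map_map, List.map_map] at this

theorem exists_sign : ∃ ε : By →* Multiplicative (ZMod 2), ∀ x < 16, ε (gy x) = par 1 := by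
  obtain ⟨ε, h⟩ := exists_hom (edges := Spor.Bimonster.edges) (extra := leg5) (show gensY.Nodup by decide)
    (fun x => if x < 16 then par 1 else 1)
    (fun x => by split_ifs <;> decide) (fun x hx => if_neg (by rw [show gensY.length = 16 from rfl] at hx; omega))
    fun w hw => by
      have hall : (relWords Spor.Bimonster.edges leg5 gensY).all
          (fun w => Nat.beq (w.length % 2) 0 && w.all fun x => Nat.blt x 16) = true := by decide +kernel
      have h := List.all_eq_true.1 hall w hw
      rw [Bool.and_eq_true, Nat.beq_eq, List.all_eq_true] at h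
      rw [List.map_congr_left (g := fun _ => par 1) (fun x hx => if_pos (show x < 16 from Nat.le_of_ble_eq_true (h.2 x hx))), prod_par,
        show (1 : Multiplicative (ZMod 2)) = par 0 from rfl, par_eq]
      omega
  exact ⟨ε, fun x hx => by rw [h, if_pos hx]⟩

theorem sign_word {ε : By →* Multiplicative (ZMod 2)} (hε : ∀ x < 16, ε (gy x) = par 1) {w : List ℕ}
    (hw : ∀ x ∈ w, x < 16) : ε (w.map gy).prod = par w.length := by
  rw [map_list_prod, List.map_map, List.map_congr_left (f := ⇑ε ∘ gy) (g := fun _ => par 1) fun x hx => hε x (hw x hx), prod_par]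

theorem prod_nine (w : List ℕ) : ((nine w).map gy).prod = (w.map gy).prod ^ 9 := by
  rw [nine, List.map_flatten, List.prod_flatten, List.map_map, List.map_replicate, List.prod_replicate]
  rfl

end CfsgLib.Recog.YSpider
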